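import Groth.Agent.H46.OpenAt
import Groth.Agent.Lib.ActSep.Criterion
import Groth.Agent.Lib.Flat55.FibreTransfer
import Mathlib.AlgebraicGeometry.Morphisms.UniversallyInjective
import Mathlib.AlgebraicGeometry.Morphisms.Finite
import Mathlib.AlgebraicGeometry.Morphisms.Etale
import Mathlib.AlgebraicGeometry.Morphisms.FinitePresentation

/-!
# A pointwise criterion of universal openness through finite etale-local pieces

`radLocus p` is the set of points over which `p` has at most one field-valued point. If `p : W ⟶ U`
is universally closed, its image is open near `u ∈ radLocus p`, and `W` maps to `X` compatibly with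
a universally open `a : U ⟶ Y`, then `f : X ⟶ Y` is universally open at the image of the point over `u`.
-/

set_option autoImplicit false
set_option backward.isDefEq.respectTransparency false
universe u
open CategoryTheory CategoryTheory.Limits AlgebraicGeometry Topology

namespace Groth.Agent.H69.UOpenStage.Basic

variable {X Y U W : Scheme.{u}}

/-- The points of the target over which `p` has at most one point in every field. -/
def radLocus (p : W ⟶ U) : Set U :=
  {y | ∀ (K : Type u) [Field K] (g₁ g₂ : Spec (CommRingCat.of K) ⟶ W),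
    g₁ ≫ p = g₂ ≫ p → (g₁ ≫ p) (IsLocalRing.closedPoint K) = y → g₁ = g₂}

theorem radLocus_eq (p : W ⟶ U) [IsSeparated p] :
    radLocus p = ((pullback.fst p p ≫ p) '' (Set.range (pullback.diagonal p))ᶜ)ᶜ := by
  ext y
  refine ⟨fun hy => ?_, fun hy K _ g₁ g₂ e hpt => ?_⟩
  · rintro ⟨t, ht, hty⟩
    let φ : Spec (CommRingCat.of ((pullback p p).residueField t)) ⟶ pullback p p :=
      (pullback p p).fromSpecResidueField t
    have h := hy ((pullback p p).residueField t) (φ ≫ pullback.fst p p) (φ ≫ pullback.snd p p)
      (by rw [Category.assoc, Category.assoc, pullback.condition]) (by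
        rw [Category.assoc, Scheme.Hom.comp_apply, ← hty]
        exact congrArg _ (Scheme.fromSpecResidueField_apply t _))
    have hφ : φ = (φ ≫ pullback.fst p p) ≫ pullback.diagonal p := by
      apply pullback.hom_ext
      · rw [Category.assoc, pullback.diagonal_fst, Category.comp_id]
      · rw [Category.assoc, pullback.diagonal_snd, Category.comp_id, h]
    exact ht ⟨(φ ≫ pullback.fst p p) (IsLocalRing.closedPoint _), by
      rw [← Scheme.Hom.comp_apply, ← hφ]; exact Scheme.fromSpecResidueField_apply t _⟩
  · let q : Spec (CommRingCat.of K) ⟶ pullback p p := pullback.lift g₁ g₂ e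
    have hq : Set.range q ⊆ Set.range (pullback.diagonal p) := by
      rintro _ ⟨z, rfl⟩
      obtain rfl : z = IsLocalRing.closedPoint K := Subsingleton.elim (α := PrimeSpectrum K) _ _
      by_contra hz
      refine hy ⟨_, hz, ?_⟩
      rw [← hpt, ← Scheme.Hom.comp_apply, ← Category.assoc, pullback.lift_fst]
    obtain ⟨s, hs⟩ := Groth.Agent.Lib.ActSep.Criterion.exists_lift_of_isImmersion q
      (pullback.diagonal p) hq
    calc g₁ = q ≫ pullback.fst p p := (pullback.lift_fst _ _ _).symm
      _ = q ≫ pullback.snd p p := by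
        rw [← hs, Category.assoc, Category.assoc, pullback.diagonal_fst, pullback.diagonal_snd]
      _ = g₂ := pullback.lift_snd _ _ _

theorem isConstructible_radLocus (p : W ⟶ U) [IsSeparated p] [QuasiCompact p]
    [LocallyOfFinitePresentation p] [CompactSpace U] [QuasiSeparatedSpace U] :
    IsConstructible (radLocus p) := by
  rw [radLocus_eq]
  have : CompactSpace W := QuasiCompact.compactSpace_of_compactSpace p
  have : QuasiSeparatedSpace W := quasiSeparatedSpace_of_quasiSeparated p
  have : LocallyOfFinitePresentation (pullback.diagonal p) :=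
    Groth.Agent.Lib.Flat55.FibreTransfer.locallyOfFinitePresentation_of_comp (g := pullback.fst p p)
      (by rw [pullback.diagonal_fst]; infer_instance) inferInstance
  have : QuasiCompact (pullback.fst p p) := MorphismProperty.pullback_fst _ _ inferInstance
  have : CompactSpace ↥(pullback p p) := QuasiCompact.compactSpace_of_compactSpace (pullback.fst p p)
  have : QuasiSeparatedSpace ↥(pullback p p) :=
    quasiSeparatedSpace_of_quasiSeparated (pullback.fst p p)
  have h : IsConstructible (Set.range (pullback.diagonal p)) := by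
    rw [← Set.image_univ]
    exact (pullback.diagonal p).isConstructible_image IsConstructible.univ
  exact ((pullback.fst p p ≫ p).isConstructible_image h.compl).compl

/-- Injectivity over the radicial locus, after any base change. -/
theorem eq_of_mem_radLocus {U' W' : Scheme.{u}} {p : W ⟶ U} {q : U' ⟶ U} {p' : W' ⟶ U'}
    {q' : W' ⟶ W} (sq : IsPullback q' p' p q) {v₁ v₂ : W'} (e : p' v₁ = p' v₂)
    (h : q (p' v₁) ∈ radLocus p) : v₁ = v₂ := by
  obtain ⟨t, ht1, ht2⟩ := Scheme.Pullback.exists_preimage_pullback v₁ v₂ e
  let φ : Spec (CommRingCat.of ((pullback p' p').residueField t)) ⟶ pullback p' p' :=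
    (pullback p' p').fromSpecResidueField t
  have hφ : ∀ z, φ z = t := fun z => Scheme.fromSpecResidueField_apply t z
  have h' := h ((pullback p' p').residueField t) ((φ ≫ pullback.fst p' p') ≫ q')
    ((φ ≫ pullback.snd p' p') ≫ q') (by
      simp only [Category.assoc, sq.w]
      rw [pullback.condition_assoc]) (by
      simp only [Category.assoc, sq.w, Scheme.Hom.comp_apply]
      rw [hφ, ht1])
  have h'' : φ ≫ pullback.fst p' p' = φ ≫ pullback.snd p' p' :=
    sq.hom_ext h' (by simp only [Category.assoc, pullback.condition])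
  rw [← ht1, ← ht2, ← hφ (IsLocalRing.closedPoint _), ← Scheme.Hom.comp_apply,
    ← Scheme.Hom.comp_apply, h'']

theorem isUnivOpenAt_of_piece (f : X ⟶ Y) (a : U ⟶ Y) [UniversallyOpen a] (p : W ⟶ U)
    [UniversallyClosed p] (h : W ⟶ X) (w : h ≫ f = p ≫ a) (v : W) (hv : p v ∈ radLocus p)
    (hr : Set.range p ∈ nhds (p v)) : EGA43.IsUnivOpenAt f (h v) := by
  intro Y' g x' hx' O hO
  obtain ⟨z, hz1, hz2⟩ := Scheme.Pullback.exists_preimage_pullback (f := pullback.fst f g) (g := h) x' v hx'
  let U'' := pullback a g
  let W'' := pullback p (pullback.fst a g)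
  let r : W'' ⟶ pullback f g := pullback.lift (pullback.fst _ _ ≫ h)
    (pullback.snd p (pullback.fst a g) ≫ pullback.snd a g) (by
      rw [Category.assoc, w, pullback.condition_assoc, pullback.condition, Category.assoc])
  let s : pullback (pullback.fst f g) h ⟶ W'' := pullback.lift (pullback.snd _ _)
    (pullback.lift (pullback.snd _ _ ≫ p) (pullback.fst _ _ ≫ pullback.snd f g) (by
      rw [Category.assoc, Category.assoc, ← pullback.condition, ← w, ← pullback.condition_assoc]))
    (by rw [pullback.lift_fst])
  have hsr : s ≫ r = pullback.fst (pullback.fst f g) h := by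
    apply pullback.hom_ext
    · rw [Category.assoc, pullback.lift_fst, pullback.lift_fst_assoc, pullback.condition]
    · rw [Category.assoc, pullback.lift_snd, pullback.lift_snd_assoc, pullback.lift_snd]
  have hv1 : pullback.fst p (pullback.fst a g) (s z) = v := by
    rw [← Scheme.Hom.comp_apply, pullback.lift_fst, hz2]
  have hr1 : r (s z) = x' := by rw [← Scheme.Hom.comp_apply, hsr, hz1]
  obtain ⟨O', hO'O, hO'o, hxO'⟩ := mem_nhds_iff.1 hO
  have hu : pullback.fst a g (pullback.snd p (pullback.fst a g) (s z)) = p v := by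
    rw [← Scheme.Hom.comp_apply, ← pullback.condition, Scheme.Hom.comp_apply, hv1]
  have huniq : ∀ w'', pullback.snd p (pullback.fst a g) w'' =
      pullback.snd p (pullback.fst a g) (s z) → w'' = s z := fun w'' e =>
    eq_of_mem_radLocus (IsPullback.of_hasPullback p (pullback.fst a g)) e (by rw [e, hu]; exact hv)
  let C : Set U'' := pullback.snd p (pullback.fst a g) '' (⇑r ⁻¹' O')ᶜ
  have hC : IsClosed C :=
    (pullback.snd p (pullback.fst a g)).isClosedMap _ (hO'o.preimage r.continuous).isClosed_compl
  let N : Set U'' := (⇑(pullback.fst a g) ⁻¹' interior (Set.range p)) \ C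
  have hN : IsOpen N := (isOpen_interior.preimage (pullback.fst a g).continuous).sdiff hC
  have hzN : pullback.snd p (pullback.fst a g) (s z) ∈ N := by
    refine ⟨by rw [Set.mem_preimage, hu]; exact mem_interior_iff_mem_nhds.2 hr, ?_⟩
    rintro ⟨w'', hw'', e⟩
    exact hw'' (by rw [huniq w'' e, Set.mem_preimage, hr1]; exact hxO')
  have hop : IsOpenMap (pullback.snd a g) :=
    have : UniversallyOpen (pullback.snd a g) := MorphismProperty.pullback_snd _ _ inferInstance
    (pullback.snd a g).isOpenMap
  refine Filter.mem_of_superset ((hop _ hN).mem_nhds ⟨_, hzN, ?_⟩) ?_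
  · rw [← hr1, ← Scheme.Hom.comp_apply, ← Scheme.Hom.comp_apply, ← Scheme.Hom.comp_apply,
      ← Scheme.Hom.comp_apply]
    congr 2
    simp only [r, pullback.lift_snd]
  · rintro _ ⟨u'', ⟨hu1, hu2⟩, rfl⟩
    obtain ⟨w₀, hw₀⟩ := interior_subset (s := Set.range p) hu1
    obtain ⟨w'', -, hw2⟩ :=
      Scheme.Pullback.exists_preimage_pullback (f := p) (g := pullback.fst a g) w₀ u'' hw₀
    refine ⟨r w'', hO'O ?_, ?_⟩
    · by_contra hw
      exact hu2 ⟨w'', hw, hw2⟩
    · rw [← hw2, ← Scheme.Hom.comp_apply, pullback.lift_snd, Scheme.Hom.comp_apply]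

/-- The criterion, after a base change of the morphism. -/
theorem isUnivOpenAt_of_piece_baseChange {X' Y' : Scheme.{u}} {f : X ⟶ Y} {f' : X' ⟶ Y'}
    {g : Y' ⟶ Y} {g' : X' ⟶ X} (sq : IsPullback g' f' f g) (a : U ⟶ Y) [UniversallyOpen a]
    (p : W ⟶ U) [UniversallyClosed p] (h : W ⟶ X) (w : h ≫ f = p ≫ a)
    (hop : IsOpen (⇑(pullback.fst a g) ⁻¹' Set.range p))
    (x' : X') (v : W) (hv : p v ∈ radLocus p) (hx : g' x' = h v) : EGA43.IsUnivOpenAt f' x' := by
  obtain ⟨z, hz1, hz2⟩ := Scheme.Pullback.exists_preimage_pullback (f := g') (g := h) x' v hx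
  let W' := pullback p (pullback.fst a g)
  let h' : W' ⟶ X' := sq.lift (pullback.fst _ _ ≫ h)
    (pullback.snd p (pullback.fst a g) ≫ pullback.snd a g) (by
      rw [Category.assoc, w, pullback.condition_assoc, pullback.condition, Category.assoc])
  let s : pullback g' h ⟶ W' := pullback.lift (pullback.snd _ _)
    (pullback.lift (pullback.snd _ _ ≫ p) (pullback.fst _ _ ≫ f') (by
      rw [Category.assoc, Category.assoc, ← w, ← sq.w, pullback.condition_assoc]))
    (by rw [pullback.lift_fst])
  have hsh : s ≫ h' = pullback.fst g' h := by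
    apply sq.hom_ext
    · rw [Category.assoc, sq.lift_fst, pullback.lift_fst_assoc, pullback.condition]
    · rw [Category.assoc, sq.lift_snd, pullback.lift_snd_assoc, pullback.lift_snd]
  have : UniversallyOpen (pullback.snd a g) := MorphismProperty.pullback_snd _ _ inferInstance
  have : UniversallyClosed (pullback.snd p (pullback.fst a g)) :=
    MorphismProperty.pullback_snd _ _ inferInstance
  have hx' : h' (s z) = x' := by rw [← Scheme.Hom.comp_apply, hsh, hz1]
  rw [← hx']
  refine isUnivOpenAt_of_piece f' (pullback.snd a g) (pullback.snd p (pullback.fst a g)) h'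
    (sq.lift_snd _ _ _) (s z) ?_ ?_
  · intro K _ g₁ g₂ e hpt
    refine pullback.hom_ext (hv K (g₁ ≫ pullback.fst _ _) (g₂ ≫ pullback.fst _ _) ?_ ?_) e
    · simp only [Category.assoc, pullback.condition]
      rw [reassoc_of% e]
    · simp only [Category.assoc, pullback.condition]
      rw [← Category.assoc, Scheme.Hom.comp_apply, hpt, ← Scheme.Hom.comp_apply, ← pullback.condition,
        Scheme.Hom.comp_apply, ← Scheme.Hom.comp_apply s, pullback.lift_fst, hz2]
  · rw [Scheme.Pullback.range_snd]
    refine hop.mem_nhds ?_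
    rw [Set.mem_preimage, ← Scheme.Hom.comp_apply, ← pullback.condition, Scheme.Hom.comp_apply]
    exact ⟨_, rfl⟩

end Groth.Agent.H69.UOpenStage.Basic
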