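import Groth.Agent.H69.UOpenStage.Piece
import Groth.Agent.H46.UnivOpen
import Groth.Agent.Lib.Lim.Basic
import Groth.Agent.Lib.LimTop.Descend
import Mathlib.Topology.Spectral.ConstructibleTopology

/-!
# Universal openness of locally quasi-finite morphisms descends along cofiltered limits
-/

set_option autoImplicit false
set_option backward.isDefEq.respectTransparency false
set_option maxHeartbeats 400000
universe u
open CategoryTheory CategoryTheory.Limits AlgebraicGeometry Topology
open Groth.Agent.Lib.Lim.Basic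

namespace Groth.Agent.H69.UOpenStage.Main

open Groth.Agent.H69.UOpenStage Groth.Agent.Lib.LimTop

variable {I : Type u} [SmallCategory I] {D : I ⥤ Scheme.{u}} {i₀ : I} {X₀ Y₀ : Scheme.{u}}

/-- The morphism induced at a stage. -/
noncomputable def stageHom (f₀ : X₀ ⟶ Y₀) (g₀ : Y₀ ⟶ D.obj i₀) (j : Over i₀) :
    (bcDiagram D (f₀ ≫ g₀)).obj j ⟶ (bcDiagram D g₀).obj j :=
  pullback.lift (pullback.fst _ _ ≫ f₀) (pullback.snd _ _)
    (by rw [Category.assoc]; exact pullback.condition)

variable (f₀ : X₀ ⟶ Y₀) (g₀ : Y₀ ⟶ D.obj i₀)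

theorem isPullback_stageHom (j : Over i₀) :
    IsPullback (pullback.fst (f₀ ≫ g₀) (D.map j.hom)) (stageHom f₀ g₀ j) f₀
      (pullback.fst g₀ (D.map j.hom)) := by
  refine IsPullback.of_bot ?_ ?_ (IsPullback.of_hasPullback g₀ (D.map j.hom))
  · rw [stageHom, pullback.lift_snd]; exact IsPullback.of_hasPullback _ _
  · exact (pullback.lift_fst _ _ _).symm

theorem isPullback_stageHom_map {j k : Over i₀} (φ : j ⟶ k) :
    IsPullback ((bcDiagram D (f₀ ≫ g₀)).map φ) (stageHom f₀ g₀ j) (stageHom f₀ g₀ k)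
      ((bcDiagram D g₀).map φ) := by
  refine IsPullback.of_right ?_ ?_ (isPullback_stageHom f₀ g₀ k)
  · rw [bcDiagram_map_fst, bcDiagram_map_fst]; exact isPullback_stageHom f₀ g₀ j
  · apply pullback.hom_ext
    · simp only [stageHom, Category.assoc, pullback.lift_fst, bcDiagram_map_fst]
      erw [bcDiagram_map_fst_assoc]
    · simp only [stageHom, Category.assoc, pullback.lift_snd]
      erw [bcDiagram_map_snd, bcDiagram_map_snd, pullback.lift_snd_assoc]

variable [IsCofiltered I] {c : Cone D} {X Y : Scheme.{u}} {f : X ⟶ Y} {g : Y ⟶ c.pt}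
  {qY : Y ⟶ Y₀} {qX : X ⟶ X₀}

theorem exists_universallyOpen_stage (hc : IsLimit c)
    [∀ (i j : I) (φ : i ⟶ j), IsAffineHom (D.map φ)] [CompactSpace (D.obj i₀)]
    [QuasiSeparatedSpace (D.obj i₀)] [CompactSpace X₀] [QuasiSeparatedSpace X₀] [CompactSpace Y₀]
    [QuasiSeparatedSpace Y₀] [LocallyOfFinitePresentation f₀] [LocallyQuasiFinite f₀]
    (hY : IsPullback qY g g₀ (c.π.app i₀)) (hX : IsPullback qX f f₀ qY) [UniversallyOpen f] :
    ∃ j : Over i₀, UniversallyOpen (stageHom f₀ g₀ j) := by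
  have : ∀ {i j : I} (φ : i ⟶ j), IsAffineHom (D.map φ) := fun φ => inferInstance
  have hXg : IsPullback qX (f ≫ g) (f₀ ≫ g₀) (c.π.app i₀) := hX.paste_vert hY
  let DX := bcDiagram D (f₀ ≫ g₀)
  let DY := bcDiagram D g₀
  have : ∀ {i j : Over i₀} (φ : i ⟶ j), IsAffineHom (DX.map φ) := fun φ =>
    isAffineHom_bcDiagram_map D _ φ
  have : ∀ {i j : Over i₀} (φ : i ⟶ j), IsAffineHom (DY.map φ) := fun φ =>
    isAffineHom_bcDiagram_map D _ φ
  have hlX : IsLimit (bcCone hXg.w) := isLimitBcCone hc hXg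
  have hlY : IsLimit (bcCone hY.w) := isLimitBcCone hc hY
  have hcX : ∀ j, CompactSpace (DX.obj j) := fun j => compactSpace_bcDiagram D _ j
  have hqX : ∀ j, QuasiSeparatedSpace (DX.obj j) := fun j =>
    have := isAffineHom_fst D (f₀ ≫ g₀) j
    quasiSeparatedSpace_of_quasiSeparated (pullback.fst (f₀ ≫ g₀) (D.map j.hom))
  let πX : ∀ j, X ⟶ DX.obj j := fun j => (bcCone hXg.w).π.app j
  let πY : ∀ j, Y ⟶ DY.obj j := fun j => (bcCone hY.w).π.app j
  have sq : ∀ j, IsPullback (πX j) f (stageHom f₀ g₀ j) (πY j) := by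
    intro j
    refine IsPullback.of_right ?_ ?_ (isPullback_stageHom f₀ g₀ j)
    · show IsPullback ((bcCone hXg.w).π.app j ≫ _) f f₀ ((bcCone hY.w).π.app j ≫ _)
      erw [bcCone_π_fst, bcCone_π_fst]
      exact hX
    · apply pullback.hom_ext
      · show ((bcCone hXg.w).π.app j ≫ stageHom f₀ g₀ j) ≫ _ = (f ≫ (bcCone hY.w).π.app j) ≫ _
        simp only [stageHom, Category.assoc, pullback.lift_fst]
        erw [bcCone_π_fst, bcCone_π_fst_assoc]
        exact hX.w
      · show ((bcCone hXg.w).π.app j ≫ stageHom f₀ g₀ j) ≫ _ = (f ≫ (bcCone hY.w).π.app j) ≫ _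
        simp only [stageHom, Category.assoc, pullback.lift_snd]
        erw [bcCone_π_snd, bcCone_π_snd, Category.assoc]
  have : CompactSpace X := Groth.Agent.Lib.LimTop.Points.compactSpace_pt hlX (Over.mk (𝟙 i₀))
  have : QuasiSeparatedSpace X := Groth.Agent.Lib.LimTop.Points.quasiSeparatedSpace_pt hlX (Over.mk (𝟙 i₀))
  let Good : ∀ j, Set (DX.obj j) := fun j => {x | EGA43.IsUnivOpenAt (stageHom f₀ g₀ j) x}
  -- locally, a constructible set of good points at some stage
  have loc : ∀ x : X, ∃ (j : Over i₀) (Z : Set (DX.obj j)),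
      IsConstructible Z ∧ Z ⊆ Good j ∧ πX j x ∈ Z := by
    intro x
    let j₀ : Over i₀ := Over.mk (𝟙 i₀)
    have : LocallyQuasiFinite (stageHom f₀ g₀ j₀) :=
      MorphismProperty.of_isPullback (isPullback_stageHom f₀ g₀ j₀) inferInstance
    have : LocallyOfFinitePresentation (stageHom f₀ g₀ j₀) :=
      MorphismProperty.of_isPullback (isPullback_stageHom f₀ g₀ j₀) inferInstance
    obtain ⟨U, a, W, p, h, v, hU, ha, hp, hp', w, hv, hrad, hopen⟩ :=
      Piece.exists_piece (stageHom f₀ g₀ j₀) (πX j₀ x)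
    have : CompactSpace W := QuasiCompact.compactSpace_of_compactSpace p
    have : QuasiSeparatedSpace W := quasiSeparatedSpace_of_quasiSeparated p
    -- the system over the etale neighbourhood
    let DU := bcDiagram DY a
    have sqU := IsPullback.of_hasPullback a (πY j₀)
    have hlU : IsLimit (bcCone (D := DY) (c := bcCone hY.w) sqU.w) := isLimitBcCone hlY sqU
    have : ∀ {i j : Over j₀} (φ : i ⟶ j), IsAffineHom (DU.map φ) := fun φ =>
      isAffineHom_bcDiagram_map DY a φ
    let k₀ : Over j₀ := Over.mk (𝟙 j₀)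
    have : CompactSpace (DU.obj k₀) := compactSpace_bcDiagram DY a k₀
    let T : Set U := Set.range p
    have hT : IsConstructible T := by
      show IsConstructible (Set.range p)
      rw [← Set.image_univ]
      exact p.isConstructible_image IsConstructible.univ
    let Z : Set (DU.obj k₀) := ⇑(pullback.fst a (DY.map k₀.hom)) ⁻¹' T
    have hZopen : IsOpen (⇑((bcCone (D := DY) (c := bcCone hY.w) sqU.w).π.app k₀) ⁻¹' Z) := by
      have e : (bcCone (D := DY) (c := bcCone hY.w) sqU.w).π.app k₀ ≫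
          pullback.fst a (DY.map k₀.hom) = pullback.fst a (πY j₀) := bcCone_π_fst _ _
      rw [show (⇑((bcCone (D := DY) (c := bcCone hY.w) sqU.w).π.app k₀) ⁻¹' Z) =
        ⇑(pullback.fst a (πY j₀)) ⁻¹' T by
          ext y
          show pullback.fst a (DY.map k₀.hom) _ ∈ T ↔ pullback.fst a (πY j₀) y ∈ T
          exact iff_of_eq congr($e y ∈ T)]
      have : UniversallyOpen (pullback.snd p (pullback.fst a (πY j₀))) := by
        refine hopen _ _ ?_
        rw [sqU.w]
        have sq' : IsPullback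
            (pullback.fst (stageHom f₀ g₀ j₀) (pullback.snd a (πY j₀) ≫ πY j₀))
            (pullback.snd (stageHom f₀ g₀ j₀) (pullback.snd a (πY j₀) ≫ πY j₀))
            (stageHom f₀ g₀ j₀) (pullback.snd a (πY j₀) ≫ πY j₀) := IsPullback.of_hasPullback _ _
        have hl := IsPullback.of_hasPullback f (pullback.snd a (πY j₀))
        have hh := hl.paste_horiz (sq j₀)
        rw [← hh.isoPullback_inv_snd]
        infer_instance
      show IsOpen (⇑(pullback.fst a (πY j₀)) ⁻¹' Set.range p)
      rw [← Scheme.Pullback.range_snd]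
      exact (pullback.snd p (pullback.fst a (πY j₀))).isOpenMap.isOpen_range
    obtain ⟨k, φ, hk⟩ := (Descend.isOpen_preimage_iff hlU k₀
      ((PC.IsPC.of_isConstructible hT).preimage _)
      (PC.IsPC.preimage (pullback.fst a (DY.map k₀.hom)) (PC.IsPC.compl_of_isConstructible hT))).1 hZopen
    have hk' : IsOpen (⇑(pullback.fst a (DY.map k.hom)) ⁻¹' Set.range p) := by
      have e : DU.map φ ≫ pullback.fst a (DY.map k₀.hom) = pullback.fst a (DY.map k.hom) :=
        bcDiagram_map_fst DY a φ
      rw [← e]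
      exact hk
    let S : Set (DX.obj j₀) := h '' (⇑p ⁻¹' Basic.radLocus p)
    have hS : IsConstructible S := by
      have : QuasiCompact h := quasiCompact_of_compactSpace h
      have : LocallyOfFinitePresentation h :=
        Groth.Agent.Lib.Flat55.FibreTransfer.locallyOfFinitePresentation_of_comp
          (g := stageHom f₀ g₀ j₀) (by rw [w]; infer_instance) inferInstance
      exact h.isConstructible_image (Descend.isConstructible_preimage p (Basic.isConstructible_radLocus p))
    refine ⟨k.left, ⇑(DX.map k.hom) ⁻¹' S, Descend.isConstructible_preimage _ hS, ?_, ?_⟩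
    · rintro x' ⟨v', hv', hxv⟩
      exact Basic.isUnivOpenAt_of_piece_baseChange (isPullback_stageHom_map f₀ g₀ k.hom) a p h w hk'
        x' v' hv' hxv.symm
    · refine ⟨v, hrad, ?_⟩
      rw [hv, ← Scheme.Hom.comp_apply]
      exact congr($(((bcCone hXg.w).w k.hom).symm) x)
  classical
  choose J Z hZc hZg hZx using loc
  have hmem : (Set.univ : Set X) ⊆ ⋃ x, ⇑(πX (J x)) ⁻¹' Z x := fun x _ =>
    Set.mem_iUnion.2 ⟨x, hZx x⟩
  have hcomp : @IsCompact X (constructibleTopology X) (Set.univ : Set X) := by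
    have : @CompactSpace X (constructibleTopology X) :=
      @Function.Surjective.compactSpace (WithConstructibleTopology X) X _ (constructibleTopology X) _
        (WithTopology.continuous_ofTopology (constructibleTopology X))
        _ (WithTopology.ofTopology_surjective _)
    exact @isCompact_univ X (constructibleTopology X) this
  obtain ⟨t, ht⟩ := @IsCompact.elim_finite_subcover X (constructibleTopology X) _ _ hcomp _
    (fun x => (PC.isClopen_cons_of_isConstructible
      (Descend.isConstructible_preimage (πX (J x)) (hZc x))).2) hmem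
  obtain ⟨l, hl⟩ := IsCofiltered.inf_objs_exists (t.image J)
  have hl' : ∀ x ∈ t, Nonempty (l ⟶ J x) := fun x hx => hl (Finset.mem_image_of_mem J hx)
  let S : Set (DX.obj l) := ⋃ x ∈ t, if hx : Nonempty (l ⟶ J x)
    then ⇑(DX.map hx.some) ⁻¹' Z x else ∅
  have hS : IsConstructible S := by
    refine IsConstructible.biUnion t.finite_toSet fun x hx => ?_
    rw [dif_pos (hl' x hx)]
    exact Descend.isConstructible_preimage _ (hZc x)
  have hSu : (⇑(πX l) ⁻¹' Set.univ : Set X) ⊆ ⇑(πX l) ⁻¹' S := by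
    intro x _
    obtain ⟨x', hx', hxx'⟩ := Set.mem_iUnion₂.1 (ht (Set.mem_univ x))
    refine Set.mem_iUnion₂.2 ⟨x', hx', ?_⟩
    rw [dif_pos (hl' x' hx')]
    show DX.map (hl' x' hx').some (πX l x) ∈ Z x'
    rw [← Scheme.Hom.comp_apply]
    erw [(bcCone hXg.w).w]
    exact hxx'
  obtain ⟨m, ψ, hm⟩ := Points.exists_map_preimage_subset hlX l PC.IsPC.univ
    (PC.IsPC.compl_of_isConstructible hS) hSu
  refine ⟨m, H46.UnivOpen.universallyOpen_of_forall _ fun x => ?_⟩
  obtain ⟨x', hx', hxx'⟩ := Set.mem_iUnion₂.1 (hm (Set.mem_univ x))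
  rw [dif_pos (hl' x' hx')] at hxx'
  exact H46.OpenAt.isUnivOpenAt_baseChange (hZg x' hxx')
    (isPullback_stageHom_map f₀ g₀ (ψ ≫ (hl' x' hx').some)) x (by rw [DX.map_comp]; rfl)

end Groth.Agent.H69.UOpenStage.Main
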