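import Groth.Agent.H69.UOpenStage.Basic
import Groth.Agent.H56.Split
import Mathlib.AlgebraicGeometry.ZariskisMainTheorem

/-!
# Etale-local finite pieces of a locally quasi-finite morphism
-/

set_option autoImplicit false
set_option backward.isDefEq.respectTransparency false
universe u
open CategoryTheory CategoryTheory.Limits AlgebraicGeometry Topology

namespace Groth.Agent.H69.UOpenStage.Piece

open Groth.Agent.H69.UOpenStage

variable {X Y : Scheme.{u}}

theorem eq_of_purelyInseparable {P U : Scheme.{u}} (p : P ⟶ U) (w : P)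
    (hw : (p.residueFieldMap w).hom.IsPurelyInseparable) {K : Type u} [Field K]
    (g₁ g₂ : Spec (CommRingCat.of K) ⟶ P) (e : g₁ ≫ p = g₂ ≫ p)
    (h₁ : g₁ (IsLocalRing.closedPoint K) = w) (h₂ : g₂ (IsLocalRing.closedPoint K) = w) : g₁ = g₂ := by
  have key : ∀ g : Spec (CommRingCat.of K) ⟶ P, g (IsLocalRing.closedPoint K) = w →
      ∃ φ : P.residueField w ⟶ CommRingCat.of K, g = Spec.map φ ≫ P.fromSpecResidueField w := by
    intro g hg
    subst hg
    exact ⟨P.descResidueField (Scheme.stalkClosedPointTo g),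
      (Scheme.descResidueField_stalkClosedPointTo_fromSpecResidueField K P g).symm⟩
  obtain ⟨φ₁, rfl⟩ := key g₁ h₁
  obtain ⟨φ₂, rfl⟩ := key g₂ h₂
  rw [Category.assoc, Category.assoc, ← p.SpecMap_residueFieldMap_fromSpecResidueField,
    ← Spec.map_comp_assoc, ← Spec.map_comp_assoc, cancel_mono, Spec.map_inj, CommRingCat.hom_ext_iff] at e
  algebraize [(p.residueFieldMap w).hom]
  rw [show φ₁ = φ₂ from CommRingCat.hom_ext
    (IsPurelyInseparable.injective_comp_algebraMap (U.residueField (p w)) (P.residueField w) _ e)]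

theorem exists_piece (f : X ⟶ Y) [LocallyOfFinitePresentation f] [LocallyQuasiFinite f] (x : X) :
    ∃ (U : Scheme.{u}) (a : U ⟶ Y) (W : Scheme.{u}) (p : W ⟶ U) (h : W ⟶ X) (v : W),
      IsAffine U ∧ Etale a ∧ IsFinite p ∧ LocallyOfFinitePresentation p ∧ h ≫ f = p ≫ a ∧ h v = x ∧
        p v ∈ Basic.radLocus p ∧ ∀ (T : Scheme.{u}) (q : T ⟶ U),
          UniversallyOpen (pullback.snd f (q ≫ a)) → UniversallyOpen (pullback.snd p q) := by
  obtain ⟨U₀, a₀, u₀, ha, hu, -, hsplit⟩ := H56.Split.exists_split f (f x) (ι := PUnit.{1})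
    (fun _ => x) (fun _ => rfl) (fun _ => f.quasiFiniteAt x)
  obtain ⟨w, hw1, hw2⟩ := Scheme.Pullback.exists_preimage_pullback (f := f) (g := a₀) x u₀ hu.symm
  obtain ⟨⟨V, hwV, hVfin, huniq⟩, hres⟩ := hsplit w hw2 ⟨PUnit.unit, hw1⟩
  have hpi : ((pullback.snd f a₀).residueFieldMap w).hom.IsPurelyInseparable := hres.2
  obtain ⟨_, ⟨U' : U₀.Opens, hU', rfl⟩, huU', -⟩ :=
    U₀.isBasis_affineOpens.exists_subset_of_mem_open (Set.mem_univ u₀) isOpen_univ
  let p₀ := V.ι ≫ pullback.snd f a₀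
  have hv₀ : p₀ ⟨w, hwV⟩ = u₀ := hw2
  have : IsFinite p₀ := hVfin
  have : LocallyOfFinitePresentation p₀ := inferInstanceAs (LocallyOfFinitePresentation (_ ≫ _))
  refine ⟨U', U'.ι ≫ a₀, (p₀ ⁻¹ᵁ U' : V.toScheme.Opens), p₀ ∣_ U',
    (p₀ ⁻¹ᵁ U').ι ≫ V.ι ≫ pullback.fst f a₀, ⟨⟨w, hwV⟩, show p₀ ⟨w, hwV⟩ ∈ U' from hv₀ ▸ huU'⟩,
    hU', inferInstance, inferInstance, inferInstance, ?_, hw1, ?_, fun T q hq => ?_⟩
  · simp only [Category.assoc, morphismRestrict_ι_assoc, p₀, pullback.condition]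
  · intro K _ g₁ g₂ e hpt
    rw [← cancel_mono ((p₀ ⁻¹ᵁ U').ι ≫ V.ι)]
    have e' : (g₁ ≫ (p₀ ⁻¹ᵁ U').ι) ≫ p₀ = (g₂ ≫ (p₀ ⁻¹ᵁ U').ι) ≫ p₀ := by
      simp only [Category.assoc, ← morphismRestrict_ι]
      rw [reassoc_of% e]
    have hu₁ : p₀ ((g₁ ≫ (p₀ ⁻¹ᵁ U').ι) (IsLocalRing.closedPoint K)) = u₀ := by
      rw [← hv₀, ← Scheme.Hom.comp_apply, Category.assoc, ← morphismRestrict_ι, ← Category.assoc,
        Scheme.Hom.comp_apply, hpt, ← Scheme.Hom.comp_apply, morphismRestrict_ι]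
      rfl
    have hw : ∀ g : Spec (CommRingCat.of K) ⟶ V.toScheme,
        p₀ (g (IsLocalRing.closedPoint K)) = u₀ → (g ≫ V.ι) (IsLocalRing.closedPoint K) = w :=
      fun g hg => huniq _ (g (IsLocalRing.closedPoint K)).2 hg
    simp only [← Category.assoc]
    refine eq_of_purelyInseparable (pullback.snd f a₀) w hpi _ _
      (by simpa [p₀] using e') (hw _ hu₁) (hw _ ?_)
    rw [← Scheme.Hom.comp_apply, ← e', Scheme.Hom.comp_apply, hu₁]
  · rw [← Category.assoc] at hq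
    have h1 := (IsPullback.of_hasPullback (p₀ ∣_ U') q).paste_horiz
      (isPullback_morphismRestrict p₀ U').flip
    let m : pullback p₀ (q ≫ U'.ι) ⟶ pullback (pullback.snd f a₀) (q ≫ U'.ι) :=
      pullback.lift (pullback.fst _ _ ≫ V.ι) (pullback.snd _ _)
        (by rw [Category.assoc]; exact pullback.condition)
    have hm : m ≫ pullback.snd _ _ = pullback.snd p₀ (q ≫ U'.ι) := pullback.lift_snd _ _ _
    have sqm : IsPullback (pullback.fst p₀ (q ≫ U'.ι)) m V.ι
        (pullback.fst (pullback.snd f a₀) (q ≫ U'.ι)) := by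
      refine IsPullback.of_bot ?_ (pullback.lift_fst _ _ _).symm
        (IsPullback.of_hasPullback (pullback.snd f a₀) (q ≫ U'.ι))
      rw [hm]; exact IsPullback.of_hasPullback p₀ (q ≫ U'.ι)
    have : IsOpenImmersion m := MorphismProperty.of_isPullback sqm inferInstance
    have h2 := (IsPullback.of_hasPullback (pullback.snd f a₀) (q ≫ U'.ι)).paste_horiz
      (IsPullback.of_hasPullback f a₀)
    rw [← h2.isoPullback_hom_snd] at hm
    have : UniversallyOpen (pullback.snd p₀ (q ≫ U'.ι)) := by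
      rw [← hm]; infer_instance
    rw [← h1.isoPullback_hom_snd]
    infer_instance

end Groth.Agent.H69.UOpenStage.Piece
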